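import Mathlib

/-! S4025, PART C support (helper2): the number of subgroups of order `p` and `p^2` of an elementary abelian `p`-group,
by double counting of independent pairs. -/

set_option autoImplicit false

namespace Cfsg.Agent.Lib.Helper2.HC25

open scoped Classical

variable {p : ℕ} [hp : Fact p.Prime] {V : Type*} [AddCommGroup V] [Finite V]

theorem card_zmultiples_of_ne_zero (hexp : ∀ v : V, p • v = 0) {v : V} (hv : v ≠ 0) :
    Nat.card ↥(AddSubgroup.zmultiples v) = p := by
  rw [Nat.card_zmultiples]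
  exact addOrderOf_eq_prime (hexp v) hv

/-- the independent pairs inside a subgroup `U` -/
def IndSet (U : AddSubgroup V) : Set (V × V) :=
  {x | x.1 ∈ U ∧ x.2 ∈ U ∧ x.1 ≠ 0 ∧ x.2 ∉ AddSubgroup.zmultiples x.1}

theorem mem_indSet {U : AddSubgroup V} {x : V × V} :
    x ∈ IndSet U ↔ x.1 ∈ U ∧ x.2 ∈ U ∧ x.1 ≠ 0 ∧ x.2 ∉ AddSubgroup.zmultiples x.1 := Iff.rfl

theorem card_filter_mem [Fintype V] (U : AddSubgroup V) :
    (Finset.univ.filter (fun v : V => v ∈ U)).card = Nat.card ↥U := by
  rw [Nat.card_eq_fintype_card, Fintype.card_subtype]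

theorem card_indSet (hexp : ∀ v : V, p • v = 0) (U : AddSubgroup V) :
    Nat.card ↥(IndSet U) = (Nat.card ↥U - 1) * (Nat.card ↥U - p) := by
  have : Fintype V := Fintype.ofFinite V
  have h0 : Nat.card ↥(IndSet U) = (Finset.univ.filter (fun x : V × V => x ∈ IndSet U)).card := by
    rw [Nat.card_eq_fintype_card, Fintype.card_subtype]
  rw [h0]
  have hS : (Finset.univ.filter (fun x : V × V => x ∈ IndSet U)).card =
      ((Finset.univ.filter (fun v : V => v ∈ U ∧ v ≠ 0)).sigma
        (fun v => Finset.univ.filter (fun w : V => w ∈ U ∧ w ∉ AddSubgroup.zmultiples v))).card := by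
    apply Finset.card_bij' (fun x _ => (⟨x.1, x.2⟩ : Σ _ : V, V)) (fun y _ => (y.1, y.2))
    · intro x hx
      simp only [Finset.mem_filter, Finset.mem_univ, true_and, mem_indSet] at hx
      simp only [Finset.mem_sigma, Finset.mem_filter, Finset.mem_univ, true_and]
      exact ⟨⟨hx.1, hx.2.2.1⟩, hx.2.1, hx.2.2.2⟩
    · intro y hy
      simp only [Finset.mem_sigma, Finset.mem_filter, Finset.mem_univ, true_and] at hy
      simp only [Finset.mem_filter, Finset.mem_univ, true_and, mem_indSet]
      exact ⟨hy.1.1, hy.2.1, hy.1.2, hy.2.2⟩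
    · intro x _; rfl
    · intro y _; rfl
  rw [hS, Finset.card_sigma]
  have hinner : ∀ v ∈ Finset.univ.filter (fun v : V => v ∈ U ∧ v ≠ 0),
      (Finset.univ.filter (fun w : V => w ∈ U ∧ w ∉ AddSubgroup.zmultiples v)).card = Nat.card ↥U - p := by
    intro v hv
    simp only [Finset.mem_filter, Finset.mem_univ, true_and] at hv
    have hle : AddSubgroup.zmultiples v ≤ U := by
      rw [AddSubgroup.zmultiples_le]
      exact hv.1
    have heq : Finset.univ.filter (fun w : V => w ∈ U ∧ w ∉ AddSubgroup.zmultiples v) =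
        Finset.univ.filter (fun w : V => w ∈ U) \ Finset.univ.filter (fun w : V => w ∈ AddSubgroup.zmultiples v) := by
      ext w
      simp only [Finset.mem_filter, Finset.mem_univ, true_and, Finset.mem_sdiff]
    rw [heq, Finset.card_sdiff_of_subset, card_filter_mem, card_filter_mem, card_zmultiples_of_ne_zero hexp hv.2]
    intro w hw
    simp only [Finset.mem_filter, Finset.mem_univ, true_and] at hw ⊢
    exact hle hw
  rw [Finset.sum_congr rfl hinner, Finset.sum_const, smul_eq_mul]
  congr 1
  have heq : Finset.univ.filter (fun v : V => v ∈ U ∧ v ≠ 0) =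
      Finset.univ.filter (fun v : V => v ∈ U) \ {0} := by
    ext v
    simp only [Finset.mem_filter, Finset.mem_univ, true_and, Finset.mem_sdiff, Finset.mem_singleton]
  rw [heq, Finset.card_sdiff_of_subset, card_filter_mem, Finset.card_singleton]
  intro w hw
  simp only [Finset.mem_singleton] at hw
  simp only [Finset.mem_filter, Finset.mem_univ, true_and]
  rw [hw]
  exact U.zero_mem

theorem card_sup_zmultiples (hexp : ∀ v : V, p • v = 0) {v w : V} (hv : v ≠ 0)
    (hw : w ∉ AddSubgroup.zmultiples v) :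
    Nat.card ↥(AddSubgroup.zmultiples v ⊔ AddSubgroup.zmultiples w) = p ^ 2 := by
  have hw0 : w ≠ 0 := by
    intro h
    apply hw
    rw [h]
    exact (AddSubgroup.zmultiples v).zero_mem
  have hA := card_zmultiples_of_ne_zero hexp hv
  have hB := card_zmultiples_of_ne_zero hexp hw0
  have hAU : AddSubgroup.zmultiples v ≤ AddSubgroup.zmultiples v ⊔ AddSubgroup.zmultiples w := le_sup_left
  have hBU : AddSubgroup.zmultiples w ≤ AddSubgroup.zmultiples v ⊔ AddSubgroup.zmultiples w := le_sup_right
  -- the sum map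
  let f : ↥(AddSubgroup.zmultiples v) × ↥(AddSubgroup.zmultiples w) →+
      ↥(AddSubgroup.zmultiples v ⊔ AddSubgroup.zmultiples w) :=
    (AddMonoidHom.coprod (AddSubgroup.zmultiples v).subtype (AddSubgroup.zmultiples w).subtype).codRestrict
      (AddSubgroup.zmultiples v ⊔ AddSubgroup.zmultiples w) (by
        rintro ⟨a, b⟩
        simp only [AddMonoidHom.coprod_apply, AddSubgroup.coe_subtype]
        exact AddSubgroup.add_mem _ (hAU a.2) (hBU b.2))
  have hf : Function.Surjective f := by
    rintro ⟨x, hx⟩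
    obtain ⟨a, ha, b, hb, hab⟩ := AddSubgroup.mem_sup.mp hx
    refine ⟨(⟨a, ha⟩, ⟨b, hb⟩), ?_⟩
    apply Subtype.ext
    simpa [f] using hab
  have hdvd : Nat.card ↥(AddSubgroup.zmultiples v ⊔ AddSubgroup.zmultiples w) ∣ p ^ 2 := by
    have h1 := AddSubgroup.card_dvd_of_surjective f hf
    rwa [Nat.card_prod, hA, hB, ← pow_two] at h1
  obtain ⟨k, hk2, hk⟩ := (Nat.dvd_prime_pow hp.out).mp hdvd
  have hpd : p ∣ Nat.card ↥(AddSubgroup.zmultiples v ⊔ AddSubgroup.zmultiples w) := by
    have h1 := AddSubgroup.card_dvd_of_le hAU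
    rwa [hA] at h1
  have hne : Nat.card ↥(AddSubgroup.zmultiples v ⊔ AddSubgroup.zmultiples w) ≠ p := by
    intro h
    have heq : AddSubgroup.zmultiples v = AddSubgroup.zmultiples v ⊔ AddSubgroup.zmultiples w :=
      AddSubgroup.eq_of_le_of_card_ge hAU (by rw [h, hA])
    apply hw
    rw [heq]
    exact hBU (AddSubgroup.mem_zmultiples w)
  rw [hk] at hpd hne ⊢
  have hk0 : k ≠ 0 := by
    intro h
    rw [h, pow_zero] at hpd
    exact hp.out.one_lt.ne' (Nat.eq_one_of_dvd_one hpd)
  have hk1 : k ≠ 1 := by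
    intro h
    rw [h, pow_one] at hne
    exact hne rfl
  have : k = 2 := by omega
  rw [this]

theorem sup_eq_iff_mem_indSet (hexp : ∀ v : V, p • v = 0) {U : AddSubgroup V} (hU : Nat.card ↥U = p ^ 2)
    {x : V × V} (hx : x ∈ IndSet (⊤ : AddSubgroup V)) :
    AddSubgroup.zmultiples x.1 ⊔ AddSubgroup.zmultiples x.2 = U ↔ x ∈ IndSet U := by
  obtain ⟨-, -, h1, h2⟩ := hx
  constructor
  · intro h
    refine ⟨?_, ?_, h1, h2⟩
    · rw [← h]
      exact (le_sup_left : AddSubgroup.zmultiples x.1 ≤ _) (AddSubgroup.mem_zmultiples x.1)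
    · rw [← h]
      exact (le_sup_right : AddSubgroup.zmultiples x.2 ≤ _) (AddSubgroup.mem_zmultiples x.2)
  · rintro ⟨h3, h4, -, -⟩
    apply AddSubgroup.eq_of_le_of_card_ge
    · apply sup_le
      · rw [AddSubgroup.zmultiples_le]; exact h3
      · rw [AddSubgroup.zmultiples_le]; exact h4
    · rw [hU, card_sup_zmultiples hexp h1 h2]

theorem card_planes_mul {n : ℕ} (hV : Nat.card V = p ^ n) (hexp : ∀ v : V, p • v = 0) :
    Nat.card {U : AddSubgroup V // Nat.card ↥U = p ^ 2} * ((p ^ 2 - 1) * (p ^ 2 - p)) =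
      (p ^ n - 1) * (p ^ n - p) := by
  have : Fintype V := Fintype.ofFinite V
  have : Fintype (AddSubgroup V) := Fintype.ofFinite _
  have htop := card_indSet hexp (⊤ : AddSubgroup V)
  rw [AddSubgroup.card_top, hV] at htop
  rw [← htop]
  have h0 : Nat.card ↥(IndSet (⊤ : AddSubgroup V)) =
      (Finset.univ.filter (fun x : V × V => x ∈ IndSet (⊤ : AddSubgroup V))).card := by
    rw [Nat.card_eq_fintype_card, Fintype.card_subtype]
  rw [h0]
  have hH : ∀ x ∈ Finset.univ.filter (fun x : V × V => x ∈ IndSet (⊤ : AddSubgroup V)),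
      AddSubgroup.zmultiples x.1 ⊔ AddSubgroup.zmultiples x.2 ∈
        Finset.univ.filter (fun U : AddSubgroup V => Nat.card ↥U = p ^ 2) := by
    intro x hx
    simp only [Finset.mem_filter, Finset.mem_univ, true_and] at hx ⊢
    exact card_sup_zmultiples hexp hx.2.2.1 hx.2.2.2
  rw [Finset.card_eq_sum_card_fiberwise hH]
  have hfib : ∀ U ∈ Finset.univ.filter (fun U : AddSubgroup V => Nat.card ↥U = p ^ 2),
      ((Finset.univ.filter (fun x : V × V => x ∈ IndSet (⊤ : AddSubgroup V))).filter
        (fun x => AddSubgroup.zmultiples x.1 ⊔ AddSubgroup.zmultiples x.2 = U)).card =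
        (p ^ 2 - 1) * (p ^ 2 - p) := by
    intro U hU
    simp only [Finset.mem_filter, Finset.mem_univ, true_and] at hU
    have heq : (Finset.univ.filter (fun x : V × V => x ∈ IndSet (⊤ : AddSubgroup V))).filter
        (fun x => AddSubgroup.zmultiples x.1 ⊔ AddSubgroup.zmultiples x.2 = U) =
        Finset.univ.filter (fun x : V × V => x ∈ IndSet U) := by
      ext x
      simp only [Finset.mem_filter, Finset.mem_univ, true_and]
      constructor
      · rintro ⟨hx, hs⟩
        exact (sup_eq_iff_mem_indSet hexp hU hx).mp hs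
      · intro hx
        have hx' : x ∈ IndSet (⊤ : AddSubgroup V) :=
          ⟨AddSubgroup.mem_top _, AddSubgroup.mem_top _, hx.2.2.1, hx.2.2.2⟩
        exact ⟨hx', (sup_eq_iff_mem_indSet hexp hU hx').mpr hx⟩
    rw [heq]
    have h1 := card_indSet hexp U
    rw [hU] at h1
    rw [← h1, Nat.card_eq_fintype_card, Fintype.card_subtype]
  rw [Finset.sum_congr rfl hfib, Finset.sum_const, smul_eq_mul]
  congr 1
  rw [Nat.card_eq_fintype_card, Fintype.card_subtype]

theorem card_points_mul {n : ℕ} (hV : Nat.card V = p ^ n) (hexp : ∀ v : V, p • v = 0) :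
    Nat.card {U : AddSubgroup V // Nat.card ↥U = p} * (p - 1) = p ^ n - 1 := by
  have : Fintype V := Fintype.ofFinite V
  have : Fintype (AddSubgroup V) := Fintype.ofFinite _
  have h0 : p ^ n - 1 = (Finset.univ.filter (fun v : V => v ≠ 0)).card := by
    have heq : Finset.univ.filter (fun v : V => v ≠ 0) = Finset.univ \ {0} := by
      ext v
      simp only [Finset.mem_filter, Finset.mem_univ, true_and, Finset.mem_sdiff, Finset.mem_singleton]
    rw [heq, Finset.card_sdiff_of_subset (Finset.subset_univ _), Finset.card_univ, Finset.card_singleton,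
      ← Nat.card_eq_fintype_card, hV]
  rw [h0]
  have hH : ∀ v ∈ Finset.univ.filter (fun v : V => v ≠ 0),
      AddSubgroup.zmultiples v ∈ Finset.univ.filter (fun U : AddSubgroup V => Nat.card ↥U = p) := by
    intro v hv
    simp only [Finset.mem_filter, Finset.mem_univ, true_and] at hv ⊢
    exact card_zmultiples_of_ne_zero hexp hv
  rw [Finset.card_eq_sum_card_fiberwise hH]
  have hfib : ∀ U ∈ Finset.univ.filter (fun U : AddSubgroup V => Nat.card ↥U = p),
      ((Finset.univ.filter (fun v : V => v ≠ 0)).filter (fun v => AddSubgroup.zmultiples v = U)).card = p - 1 := by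
    intro U hU
    simp only [Finset.mem_filter, Finset.mem_univ, true_and] at hU
    have heq : (Finset.univ.filter (fun v : V => v ≠ 0)).filter (fun v => AddSubgroup.zmultiples v = U) =
        Finset.univ.filter (fun v : V => v ∈ U) \ {0} := by
      ext v
      simp only [Finset.mem_filter, Finset.mem_univ, true_and, Finset.mem_sdiff, Finset.mem_singleton]
      constructor
      · rintro ⟨hv, hs⟩
        refine ⟨?_, hv⟩
        rw [← hs]
        exact AddSubgroup.mem_zmultiples v
      · rintro ⟨hvU, hv⟩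
        refine ⟨hv, ?_⟩
        apply AddSubgroup.eq_of_le_of_card_ge
        · rw [AddSubgroup.zmultiples_le]; exact hvU
        · rw [hU, card_zmultiples_of_ne_zero hexp hv]
    rw [heq, Finset.card_sdiff_of_subset, card_filter_mem, Finset.card_singleton, hU]
    intro w hw
    simp only [Finset.mem_singleton] at hw
    simp only [Finset.mem_filter, Finset.mem_univ, true_and]
    rw [hw]
    exact U.zero_mem
  rw [Finset.sum_congr rfl hfib, Finset.sum_const, smul_eq_mul]
  congr 1
  rw [Nat.card_eq_fintype_card, Fintype.card_subtype]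

end Cfsg.Agent.Lib.Helper2.HC25
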