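import Mathlib

/-! S4025 leaf D0: a finite field of order `p^n` is ring-isomorphic to `GaloisField p n`.
RECIPE: `letI : Fintype (GaloisField p n) := Fintype.ofFinite _`; `FiniteField.ringEquivOfCardEq` needs
`Fintype.card F = Fintype.card (GaloisField p n)`; `GaloisField.card p n hn : Nat.card (GaloisField p n) = p ^ n`;
`Nat.card_eq_fintype_card`. -/

set_option autoImplicit false

namespace Cfsg.Agent.Lib.Helper2.HC25

theorem exists_ringEquiv_galoisField {F : Type} [Field F] [Fintype F] (p n : ℕ) [Fact p.Prime] (hn : n ≠ 0)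
    (h : Nat.card F = p ^ n) : Nonempty (F ≃+* GaloisField p n) := by
  letI : Fintype (GaloisField p n) := Fintype.ofFinite _
  have h1 : Fintype.card F = Fintype.card (GaloisField p n) := by
    rw [← Nat.card_eq_fintype_card, ← Nat.card_eq_fintype_card, h, GaloisField.card p n hn]
  exact ⟨FiniteField.ringEquivOfCardEq h1⟩

end Cfsg.Agent.Lib.Helper2.HC25
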