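import Mathlib

/-! S4025 leaf D1: order of the affine group `Ψ.range = V ⋊ c.range`.
`Ψ g` determines `c g` (`c g v = Ψ g v - Ψ g 0`, by `haff` and `c g 0 = 0` from `hcadd`), so `Ψ g ↦ c g` is a well defined surjective
hom `Ψ.range →* c.range` (or: a surjection of sets with all fibres of size `|V|`); its kernel is the set of translations `{(· + t)}`, which all lie in
`Ψ.range` by `htrans`, and `t ↦ (· + t)` is injective.  So `|Ψ.range| = |V| · |c.range|`.
Alternative: the map `V × c.range → Ψ.range`, `(t, γ) ↦ (v ↦ γ v + t)` is a bijection. -/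

set_option autoImplicit false

namespace Cfsg.Agent.Lib.Helper2.HC25

theorem card_range_eq {N' : Type*} [Group N'] {V : Type*} [AddCommGroup V] [Finite V]
    (Ψ c : N' →* Equiv.Perm V) (hcadd : ∀ g v w, c g (v + w) = c g v + c g w)
    (haff : ∀ g, ∃ t : V, ∀ v, Ψ g v = c g v + t) (htrans : ∀ t : V, ∃ g, ∀ v, Ψ g v = v + t) :
    Nat.card ↥Ψ.range = Nat.card V * Nat.card ↥c.range := by
  classical
  have hc0 : ∀ g, c g 0 = 0 := by
    intro g
    have h1 := hcadd g 0 0
    rw [add_zero] at h1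
    have h2 : c g 0 + 0 = c g 0 + c g 0 := by rw [add_zero]; exact h1
    exact (add_left_cancel h2).symm
  have key : ∀ (σ : Equiv.Perm V) (g : N'), Ψ g = σ → c g = Equiv.subRight (σ 0) * σ := by
    intro σ g hg
    obtain ⟨t, ht⟩ := haff g
    ext v
    rw [Equiv.Perm.mul_apply, Equiv.subRight_apply, ← hg, ht v, ht 0, hc0 g]
    abel
  let F : ↥Ψ.range → V × ↥c.range := fun σ =>
    (σ.1 0, ⟨Equiv.subRight (σ.1 0) * σ.1, by
      obtain ⟨g, hg⟩ := σ.2
      exact ⟨g, key σ.1 g hg⟩⟩)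
  have hF : Function.Bijective F := by
    constructor
    · intro σ σ' h
      have h1 : σ.1 0 = σ'.1 0 := congrArg Prod.fst h
      have h2 : Equiv.subRight (σ.1 0) * σ.1 = Equiv.subRight (σ'.1 0) * σ'.1 :=
        congrArg (fun x => ((x.2 : ↥c.range) : Equiv.Perm V)) h
      rw [h1] at h2
      exact Subtype.ext (mul_left_cancel h2)
    · rintro ⟨t, γ, g, hg⟩
      obtain ⟨tg, htg⟩ := haff g
      obtain ⟨g', hg'⟩ := htrans (t - tg)
      have hσ : ∀ v, Ψ (g' * g) v = c g v + t := by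
        intro v
        rw [map_mul, Equiv.Perm.mul_apply, hg', htg]; abel
      have h0 : Ψ (g' * g) 0 = t := by rw [hσ 0, hc0 g, zero_add]
      refine ⟨⟨Ψ (g' * g), ⟨_, rfl⟩⟩, ?_⟩
      apply Prod.ext
      · exact h0
      · apply Subtype.ext
        show Equiv.subRight (Ψ (g' * g) 0) * Ψ (g' * g) = γ
        ext v
        rw [Equiv.Perm.mul_apply, Equiv.subRight_apply, h0, hσ v, ← hg]
        abel
  rw [Nat.card_congr (Equiv.ofBijective F hF), Nat.card_prod]

end Cfsg.Agent.Lib.Helper2.HC25
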