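import Mathlib
import Cfsg.Prelude.Def_Perm

/-! S4025 leaf D2: transport of the affine action to the field `R` (`= GaloisField p n`).
RECIPE: `θ : V ≃ R := e.toEquiv.trans ψ.toEquiv`; `Φ := (θ.permCongrHom : Equiv.Perm V ≃* Equiv.Perm R).toMonoidHom.comp Ψ`,
so `Φ g x = θ (Ψ g (θ.symm x))` (`Equiv.permCongrHom_apply`/`Equiv.permCongr_apply`).  `Φ.ker = Ψ.ker` (`θ.permCongrHom` injective).
`Φ.range = Ψ.range.map θ.permCongrHom`, an injective image: equal cardinality (`Subgroup.card_map_of_injective` /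
`Nat.card_congr (Subgroup.equivMapOfInjective ..)`).
Membership: `Ψ g v = c g v + t`, `e (c g v) = a * σ (e v)` (`hsl (c g) ⟨g, rfl⟩`), so
`Φ g x = ψ (a * σ (ψ.symm x) + e t) = ψ a * (ψ.symm.trans (σ.trans ψ)) x + ψ (e t)`; `a ≠ 0` because `c g` is injective and `V` has
two elements (`e` is a bijection onto a field), so `ψ a` is a unit (`Units.mk0`).
Translations: `Ψ g v = v + t` with `t := e.symm (ψ.symm b)` gives `Φ g x = x + b`. -/

set_option autoImplicit false

namespace Cfsg.Agent.Lib.Helper2.HC25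

theorem transport {N' : Type*} [Group N'] {V : Type*} [AddCommGroup V] [Finite V]
    (Ψ c : N' →* Equiv.Perm V)
    (haff : ∀ g, ∃ t : V, ∀ v, Ψ g v = c g v + t) (htrans : ∀ t : V, ∃ g, ∀ v, Ψ g v = v + t)
    {F : Type} [Field F] (e : V ≃+ F)
    (hsl : ∀ γ ∈ c.range, ∃ (a : F) (σ : F ≃+* F), ∀ v, e (γ v) = a * σ (e v))
    {R : Type} [Field R] (ψ : F ≃+* R) :
    ∃ Φ : N' →* Equiv.Perm R, Φ.ker = Ψ.ker ∧ (∀ g, Φ g ∈ Cfsg.semiaffineGroup R) ∧
      (∀ b : R, ∃ g, ∀ x, Φ g x = x + b) ∧ Nat.card ↥Φ.range = Nat.card ↥Ψ.range := by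
  let θ : V ≃ R := e.toEquiv.trans ψ.toEquiv
  let Φ : N' →* Equiv.Perm R := (θ.permCongrHom : Equiv.Perm V ≃* Equiv.Perm R).toMonoidHom.comp Ψ
  have hΦ : ∀ g x, Φ g x = ψ (e (Ψ g (e.symm (ψ.symm x)))) := by
    intro g x
    show θ.permCongrHom (Ψ g) x = _
    rw [Equiv.permCongrHom_coe, Equiv.permCongr_apply]
    rfl
  have hinj : Function.Injective (θ.permCongrHom : Equiv.Perm V ≃* Equiv.Perm R).toMonoidHom :=
    (θ.permCongrHom).injective
  refine ⟨Φ, ?_, ?_, ?_, ?_⟩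
  · ext g
    rw [MonoidHom.mem_ker, MonoidHom.mem_ker]
    show θ.permCongrHom (Ψ g) = 1 ↔ _
    exact MulEquiv.map_eq_one_iff _
  · intro g
    obtain ⟨t, ht⟩ := haff g
    obtain ⟨a, σ, hσ⟩ := hsl (c g) ⟨g, rfl⟩
    have ha : a ≠ 0 := by
      intro ha0
      have h0 : ∀ v, c g v = 0 := by
        intro v
        have := hσ v
        rw [ha0, zero_mul] at this
        have h2 : e (c g v) = e 0 := by rw [this, map_zero]
        exact e.injective h2
      have h01 : e.symm (0 : F) = e.symm 1 := (c g).injective ((h0 _).trans (h0 _).symm)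
      exact zero_ne_one (e.symm.injective h01)
    have hψa : ψ a ≠ 0 := by
      intro h
      apply ha
      have : ψ a = ψ 0 := by rw [h, map_zero]
      exact ψ.injective this
    refine ⟨Units.mk0 (ψ a) hψa, ψ (e t), ψ.symm.trans (σ.trans ψ), ?_⟩
    intro x
    rw [hΦ, ht, map_add, hσ, map_add, map_mul]
    simp
  · intro b
    obtain ⟨g, hg⟩ := htrans (e.symm (ψ.symm b))
    refine ⟨g, ?_⟩
    intro x
    rw [hΦ, hg, map_add, map_add]
    simp
  · have h1 : Ψ.range.map (θ.permCongrHom : Equiv.Perm V ≃* Equiv.Perm R).toMonoidHom = Φ.range :=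
      MonoidHom.map_range _ _
    rw [← h1]
    exact Subgroup.card_map_of_injective hinj


end Cfsg.Agent.Lib.Helper2.HC25
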