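import Mathlib
import Cfsg.Prelude.Def_Perm

/-! S4025 leaf D3: first isomorphism theorem packaging.
RECIPE: `QuotientGroup.quotientMulEquivOfEq hker.symm : N' ⧸ K ≃* N' ⧸ Φ.ker`, `QuotientGroup.quotientKerEquivRange Φ : N' ⧸ Φ.ker ≃* Φ.range`,
`MulEquiv.subgroupCongr hS : Φ.range ≃* S`; for the embedding use `QuotientGroup.kerLift_injective` / compose with
`Subgroup.inclusion (h : Φ.range ≤ semiaffineGroup R)` (or `MonoidHom.codRestrict`). -/

set_option autoImplicit false

namespace Cfsg.Agent.Lib.Helper2.HC25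

theorem embed_of_ker {N' : Type*} [Group N'] (K : Subgroup N') [K.Normal] {R : Type*} [Ring R]
    (Φ : N' →* Equiv.Perm R) (hker : Φ.ker = K) (hmem : ∀ g, Φ g ∈ Cfsg.semiaffineGroup R) :
    ∃ f : N' ⧸ K →* ↥(Cfsg.semiaffineGroup R), Function.Injective f := by
  let Φ' : N' →* ↥(Cfsg.semiaffineGroup R) := Φ.codRestrict _ hmem
  have hk : Φ'.ker = K := by
    rw [← hker]
    ext x
    rw [MonoidHom.mem_ker, MonoidHom.mem_ker]
    constructor
    · intro h
      have := congrArg Subtype.val h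
      exact this
    · intro h
      exact Subtype.ext h
  refine ⟨(QuotientGroup.kerLift Φ').comp
    (QuotientGroup.quotientMulEquivOfEq hk.symm).toMonoidHom, ?_⟩
  exact (QuotientGroup.kerLift_injective Φ').comp
    (QuotientGroup.quotientMulEquivOfEq hk.symm).injective

theorem iso_of_range {N' : Type*} [Group N'] (K : Subgroup N') [K.Normal] {α : Type*}
    (Φ : N' →* Equiv.Perm α) (hker : Φ.ker = K) (S : Subgroup (Equiv.Perm α)) (hS : Φ.range = S) :
    Nonempty (N' ⧸ K ≃* ↥S) :=
  ⟨(QuotientGroup.quotientMulEquivOfEq hker.symm).trans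
    ((QuotientGroup.quotientKerEquivRange Φ).trans (MulEquiv.subgroupCongr hS))⟩

end Cfsg.Agent.Lib.Helper2.HC25
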