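import Mathlib
import Cfsg.Prelude.Def_Perm
import Cfsg.Agent.Lib.Helper14.AffCard

/-! S4025 leaf D4: orders of the one-dimensional (semi)affine groups.
`card_semiaffine`: the map `Rˣ × R × (R ≃+* R) → semiaffineGroup R`, `(a, b, φ) ↦ (x ↦ a * φ x + b)` is a bijection
(surjective by definition of the carrier; injective: evaluate at `0` to get `b`, at `1` to get `a`, then cancel the unit `a` to get `φ`).
`card_affine`: same with `Rˣ × R`.  `Nat.card Rˣ = Nat.card R - 1` (`Nat.card_units`).
`card_ringAut_galoisField`: `GaloisField p n` is Galois over `ZMod p` of degree `n` (`GaloisField.finrank`, `IsGalois.card_aut_eq_finrank`), and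
every ring automorphism is a `ZMod p`-algebra automorphism (a ring hom out of `ZMod p` is unique: `RingHom.ext_zmod` / `Subsingleton (ZMod p →+* R)`),
so `(R ≃+* R) ≃ (R ≃ₐ[ZMod p] R)`. -/

set_option autoImplicit false

namespace Cfsg.Agent.Lib.Helper2.HC25

theorem card_ringAut_galoisField (p n : ℕ) [Fact p.Prime] (hn : n ≠ 0) :
    Nat.card (GaloisField p n ≃+* GaloisField p n) = n := by
  exact Cfsg.Agent.Lib.Helper14.AffCard.card_ringAut_galoisField p n hn

theorem card_semiaffine {R : Type*} [Field R] [Finite R] :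
    Nat.card ↥(Cfsg.semiaffineGroup R) = Nat.card R * (Nat.card R - 1) * Nat.card (R ≃+* R) := by
  rw [Cfsg.Agent.Lib.Helper14.AffCard.card_semiaffineGroup_field R]
  ring

theorem card_affine {R : Type*} [Field R] [Finite R] :
    Nat.card ↥(Cfsg.affineGroup R) = Nat.card R * (Nat.card R - 1) := by
  rw [Cfsg.Agent.Lib.Helper14.AffCard.card_affineGroup_field R]
  ring

end Cfsg.Agent.Lib.Helper2.HC25
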