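import Mathlib
import Cfsg.Prelude.Def_Perm

/-! S4025 leaf D5: a subgroup of order `56` of `AΓL_1(8)` containing all translations is `AGL_1(8)`.
Paper proof.  `G := semiaffineGroup R` has order `168`, `A := affineGroup R ≤ G` has order `56`, and `S ≤ G` has order `56`.
A Sylow `7`-subgroup count in `G`: `n_7 ∣ 24`, `n_7 ≡ 1 (mod 7)`, so `n_7 ∈ {1, 8}`.  Cleaner: the translations `T` (order `8`) form a normal
subgroup of `G` contained in `A` and in `S` (`hT`); `G/T` has order `21`, hence a unique subgroup of order `7`
(`n_7 ∣ 3`, `n_7 ≡ 1 mod 7`); `A/T` and `S/T` both have order `7`, so `A = S` (preimages).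
Alternative without quotients: an element of order `7` of `S` fixing `0` has the form `x ↦ a * φ x`; its cube ... ; or show directly that
the map `S → (R ≃+* R)`, `s ↦ φ_s` is a hom to a group of order `3` whose kernel `S ∩ A` has index `1` or `3` in `S`; `3 ∤ 56`, so `S ≤ A`, equality by order.
(The last route needs: `φ_s` is well defined (D4's injectivity) and multiplicative: see `mul_mem'` in `Cfsg.semiaffineGroup`.) -/

set_option autoImplicit false

namespace Cfsg.Agent.Lib.Helper2.HC25

namespace D5

/-- powers of a semi-affine map are semi-affine with the power of the automorphism -/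
theorem pow_form {R : Type*} [Field R] (σ : Equiv.Perm R) (a b : R) (φ : RingAut R)
    (hσ : ∀ x, σ x = a * φ x + b) (k : ℕ) :
    ∃ a' b' : R, ∀ x, (σ ^ k) x = a' * (φ ^ k) x + b' := by
  induction k with
  | zero => exact ⟨1, 0, fun x => by simp⟩
  | succ k ih =>
    obtain ⟨a', b', h⟩ := ih
    refine ⟨a' * (φ ^ k) a, a' * (φ ^ k) b + b', fun x => ?_⟩
    rw [pow_succ, Equiv.Perm.mul_apply, h, hσ, pow_succ, RingAut.mul_apply, map_add, map_mul]
    ring

/-- the order of the affine group of a field with `8` elements -/
theorem card_affine {R : Type*} [Field R] [Finite R] (hR : Nat.card R = 8) :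
    Nat.card ↥(Cfsg.affineGroup R) = 56 := by
  classical
  have e : (Rˣ × R) ≃ ↥(Cfsg.affineGroup R) :=
    Equiv.ofBijective (fun t => ⟨(Units.mulLeft t.1).trans (Equiv.addRight t.2),
      ⟨t.1, t.2, fun x => rfl⟩⟩) (by
      constructor
      · rintro ⟨a, b⟩ ⟨a', b'⟩ h
        have h' : (Units.mulLeft a).trans (Equiv.addRight b) =
            (Units.mulLeft a').trans (Equiv.addRight b') := congrArg Subtype.val h
        have h0 := congrArg (fun σ : Equiv.Perm R => σ 0) h'
        simp only [Equiv.trans_apply, Units.mulLeft_apply, mul_zero, Equiv.coe_addRight,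
          zero_add] at h0
        have h1 := congrArg (fun σ : Equiv.Perm R => σ 1) h'
        simp only [Equiv.trans_apply, Units.mulLeft_apply, mul_one, Equiv.coe_addRight] at h1
        rw [h0] at h1
        have ha : a = a' := Units.ext (add_right_cancel h1)
        rw [ha, h0]
      · rintro ⟨σ, a, b, hσ⟩
        refine ⟨(a, b), ?_⟩
        apply Subtype.ext
        apply Equiv.ext
        intro x
        exact (hσ x).symm)
  rw [← Nat.card_congr e, Nat.card_prod, Nat.card_units, hR]

end D5

theorem eq_affine_of_card {R : Type*} [Field R] [Finite R] (hR : Nat.card R = 8) (hA : Nat.card (R ≃+* R) = 3)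
    (S : Subgroup (Equiv.Perm R)) (hS : S ≤ Cfsg.semiaffineGroup R)
    (hcard : Nat.card ↥S = 56) : S = Cfsg.affineGroup R := by
  have hle : S ≤ Cfsg.affineGroup R := by
    intro σ hσS
    obtain ⟨a, b, φ, hσ⟩ := hS hσS
    -- `σ ^ 56 = 1`
    have h56 : σ ^ 56 = 1 := by
      have h := pow_card_eq_one' (G := ↥S) (x := ⟨σ, hσS⟩)
      rw [hcard] at h
      have h2 := congrArg Subtype.val h
      simpa using h2
    have hφ3 : (φ : RingAut R) ^ 3 = 1 := by
      have h := pow_card_eq_one' (G := RingAut R) (x := φ)
      have hA' : Nat.card (RingAut R) = 3 := hA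
      rw [hA'] at h
      exact h
    obtain ⟨a', b', h⟩ := D5.pow_form σ a b φ hσ 56
    rw [h56] at h
    have hb : b' = 0 := by
      have := h 0
      simpa using this.symm
    have ha : a' = 1 := by
      have := h 1
      rw [hb] at this
      simpa using this.symm
    have hφ56 : (φ : RingAut R) ^ 56 = 1 := by
      apply RingEquiv.ext
      intro x
      have := h x
      rw [ha, hb, one_mul, add_zero] at this
      simpa using this.symm
    have hφ : (φ : RingAut R) = 1 := by
      have h57 : (φ : RingAut R) ^ 57 = 1 := by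
        rw [show (57 : ℕ) = 3 * 19 from rfl, pow_mul, hφ3, one_pow]
      rw [pow_succ, hφ56, one_mul] at h57
      exact h57
    refine ⟨a, b, fun x => ?_⟩
    rw [hσ x]
    have : φ x = x := by
      have := congrArg (fun ψ : RingAut R => ψ x) hφ
      simpa using this
    rw [this]
  exact Subgroup.eq_of_le_of_card_ge hle (by rw [hcard, D5.card_affine hR])

end Cfsg.Agent.Lib.Helper2.HC25
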