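import Mathlib
import Cfsg.Agent.Lib.Helper18.HC25B3

/-!
# S4025, PART B (Huppert + elimination of `3^4`)

INTERFACE THEOREM `partB`.  `Γ ≤ Equiv.Perm V` (additive maps: `hadd`) solvable, of order prime to `p`, transitive on the subgroups of `V` of each order
(only orders `p` and `p^2` are used), `|V| = p^n`, `n ≥ 3`, `V` of exponent `p`.  Then `V` carries a field structure for which
`Γ` acts semilinearly in dimension one.

Paper proof.  Make `V` a `ZMod p`-module (`AddCommGroup.zmodModule hexp`); every `γ ∈ Γ` is `ZMod p`-linear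
(`AddMonoidHom.toZModLinearMap` / `map_nsmul`).  Let `H ≤ (V ≃ₗ[ZMod p] V)` be generated by the image of `Γ` and the scalars
`LinearEquiv.smulOfUnit`; the scalars are central, so `H` = (image of `Γ`)·(scalars) is solvable.  `H` is transitive on `V ∖ {0}`:
for `v, w ≠ 0` some `γ` maps `⟨v⟩` onto `⟨w⟩` (`htr` with the two subgroups of order `p`), so `γ v = k • w` with `k` a unit of `ZMod p`.
`Cfsg.Agent.S3360.result` (Huppert) gives the field alternative (restrict to `Γ`) or `|V| ∈ {9,25,49,121,529,81}`.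
`p^n` with `n ≥ 3` is none of `9, 25, 49, 121, 529` (squares of primes); `p^n = 81` forces `p = 3`, `n = 4`.
Kill `(p,n) = (3,4)`: the `40` subgroups of order `3` and the `130` of order `9` are single `Γ`-orbits, so `5 · 13 ∣ |Γ|`;
`Γ` embeds in `GL_4(3)` of order `2^9·3^6·5·13` and `3 ∤ |Γ|`, so `|Γ| ∣ 2^9·5·13`.  Take `x, y ∈ Γ` of orders `13`, `5`.
(α) `|C_V(x)| = 3`: `|C_V(x)| ≡ 81 ≡ 3 (mod 13)`, a power of `3`, `≠ 81` (`x ≠ 1` faithful).
(β) no element `y` of order `5` commutes with `x`: `y` preserves `C_V(x)` and fixes its two non-zero points, so `C_V(y) ≠ 0`,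
`|C_V(y)| ≡ 81 ≡ 1 (mod 5)` forces `C_V(y) = V`, `y = 1`.
Either use a Hall `{5,13}`-subgroup of the solvable `Γ` (order `65`, Sylow `13` normal, `5 ∤ 12` so `y` centralizes `x`), or the Fitting subgroup:
`O_13(Γ) ≠ 1` ⇒ `Γ` fixes the subgroup `C_V(x)` of order `3`, against transitivity; `O_5(Γ) ≠ 1` ⇒ `x` centralizes it (`13 ∤ 4`), against (β);
so `F(Γ) = O_2(Γ)` has order `≤ 2^9`, `x` acts on it with `|C(x)| = 2^b ≡ 2^a (mod 13)`, `a - b < 12` so `a = b`, and `x ∈ C_Γ(F(Γ)) ≤ F(Γ)`, absurd.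
-/

set_option autoImplicit false

namespace Cfsg.Agent.Lib.Helper2.HC25

universe u

theorem partB {p : ℕ} [Fact p.Prime] {V : Type u} [AddCommGroup V] [Finite V] (n : ℕ) (hn : 3 ≤ n)
    (hV : Nat.card V = p ^ n) (hexp : ∀ v : V, p • v = 0)
    (Γ : Subgroup (Equiv.Perm V)) (hadd : ∀ γ ∈ Γ, ∀ v w : V, γ (v + w) = γ v + γ w) (hsol : Group.IsSolvable ↥Γ) (hp' : ¬ p ∣ Nat.card ↥Γ)
    (htr : ∀ U₁ U₂ : AddSubgroup V, Nat.card U₁ = Nat.card U₂ → ∃ γ ∈ Γ, ∀ v, v ∈ U₁ ↔ γ v ∈ U₂) :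
    ∃ (F : Type) (_ : Field F) (_ : Fintype F) (e : V ≃+ F),
      ∀ γ ∈ Γ, ∃ (a : F) (σ : F ≃+* F), ∀ v, e (γ v) = a * σ (e v) := by
  exact Cfsg.Agent.Lib.Helper18.HC25B.partB_main n hn hV hexp Γ hadd hsol hp' htr

end Cfsg.Agent.Lib.Helper2.HC25
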