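import Mathlib
import Cfsg.Agent.Lib.Helper2.HC25.Planes
import Cfsg.Agent.Lib.Helper20.HC25C

/-!
# S4025, PART C (counting)

INTERFACE THEOREM `partC`.  `Γ ≤ Equiv.Perm V` (additive maps: `hadd`) acts semilinearly in dimension one for a field structure `e : V ≃+ F`, `|V| = p^n`, `n ≥ 3`,
and is transitive on the subgroups of `V` of each order.  Then `n = 3`, or `n = 5` and `p = 2`; moreover `|Γ| ∈ {7, 21}` for `(p,n) = (2,3)` and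
`|Γ| = 155` for `(p,n) = (2,5)`.

Paper proof.  `ΓL := {x ↦ a σ(x) : a ∈ Fˣ, σ ∈ Aut F}` is a group of order `(p^n - 1) · |Aut F|` and `|Aut F| = n` (`F/𝔽_p` Galois; only
`|Aut F| ≤ n` is needed except for the orders).  The scalars `Z` (`a ∈ 𝔽_pˣ`, order `p - 1`) are central and fix every subgroup of `V`.
The number of subgroups of order `p^2` of `V` is `N₂ = (p^n - 1)(p^n - p) / ((p^2 - 1)(p^2 - p))` (ordered pairs of independent vectors).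
`ΓZ ≤ ΓL` is transitive on them with stabilizers containing `Z`, so `N₂ · (p - 1) ∣ |ΓZ| ∣ n (p^n - 1)`, i.e. `p^(n-1) - 1 ∣ n (p^2 - 1)`.
`n = 4`: `p^2 + p + 1 ∣ 4 (p + 1)`, impossible (`gcd = 1`, or: `p ≥ 4` by size, `p = 2, 3` by hand: `7 ∤ 12`, `13 ∤ 16`).
`n = 5`: `p^2 + 1 ∣ 5`, so `p = 2`.  `n ≥ 6`: `p^(n-1) - 1 > n (p^2 - 1)`.
Orders: `(2,3)`: `Γ` embeds in `ΓL` of order `21` and is transitive on `7` points, so `|Γ| ∈ {7, 21}`; `(2,5)`: `155 = N₂ ∣ |Γ| ∣ 155`.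
-/

set_option autoImplicit false

namespace Cfsg.Agent.Lib.Helper2.HC25

universe u

theorem partC {p : ℕ} [Fact p.Prime] {V : Type u} [AddCommGroup V] [Finite V] (n : ℕ) (hn : 3 ≤ n)
    (hV : Nat.card V = p ^ n) (hexp : ∀ v : V, p • v = 0)
    (Γ : Subgroup (Equiv.Perm V)) (hadd : ∀ γ ∈ Γ, ∀ v w : V, γ (v + w) = γ v + γ w)
    (htr : ∀ U₁ U₂ : AddSubgroup V, Nat.card U₁ = Nat.card U₂ → ∃ γ ∈ Γ, ∀ v, v ∈ U₁ ↔ γ v ∈ U₂)
    {F : Type} [Field F] [Fintype F] (e : V ≃+ F)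
    (hsl : ∀ γ ∈ Γ, ∃ (a : F) (σ : F ≃+* F), ∀ v, e (γ v) = a * σ (e v)) :
    (n = 3 ∧ (p = 2 → Nat.card ↥Γ = 7 ∨ Nat.card ↥Γ = 21)) ∨ (n = 5 ∧ p = 2 ∧ Nat.card ↥Γ = 155) :=
  Cfsg.Agent.Lib.Helper20.HC25C.partC_of_planes n hn hV Γ hadd htr e hsl (card_planes_mul hV hexp)

end Cfsg.Agent.Lib.Helper2.HC25
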