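import Cfsg.Agent.Lib.Helper2.HC25.PartA
import Cfsg.Agent.Lib.Helper2.HC25.PartB
import Cfsg.Agent.Lib.Helper2.HC25.PartC
import Cfsg.Agent.Lib.Helper2.HC25.D0
import Cfsg.Agent.Lib.Helper2.HC25.D1
import Cfsg.Agent.Lib.Helper2.HC25.D2
import Cfsg.Agent.Lib.Helper2.HC25.D3
import Cfsg.Agent.Lib.Helper2.HC25.D4
import Cfsg.Agent.Lib.Helper2.HC25.D5

/-! S4025: main assembly (sorry-free modulo PartA, PartB, PartC and the leaves D0–D5). -/

set_option autoImplicit false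

namespace Cfsg.Agent.Lib.Helper2.HC25

universe u

theorem main {G : Type u} [Group G] [Finite G]
    {p : ℕ} [Fact p.Prime] (hC : ∀ H K : Subgroup G, IsPGroup p H → IsPGroup p K → Nat.card H = Nat.card K →
      ∃ g : G, K = H.map (MulAut.conj g).toMonoidHom) (P : Sylow p G) (n : ℕ) (hn : 3 ≤ n)
    (hel : Cfsg.IsElementaryAbelian p (P : Subgroup G)) (hcard : Nat.card P = p ^ n)
    (N : Subgroup G) (hN : N = Subgroup.normalizer ((P : Subgroup G) : Set G))
    (hsolv : Group.IsSolvable (↥N ⧸ Cfsg.pPrimeCore p ↥N)) :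
    (n = 3 ∧ (∃ f : ↥N ⧸ Cfsg.pPrimeCore p ↥N →* ↥(Cfsg.semiaffineGroup (GaloisField p 3)), Function.Injective f) ∧
      (p = 2 → Nonempty (↥N ⧸ Cfsg.pPrimeCore p ↥N ≃* Cfsg.semiaffineGroup (GaloisField 2 3)) ∨
               Nonempty (↥N ⧸ Cfsg.pPrimeCore p ↥N ≃* Cfsg.affineGroup (GaloisField 2 3)))) ∨
    (n = 5 ∧ p = 2 ∧ Nonempty (↥N ⧸ Cfsg.pPrimeCore p ↥N ≃* Cfsg.semiaffineGroup (GaloisField 2 5))) := by
  obtain ⟨V, iV, iF, Ψ, c, hVP, hexp, hker, hcadd, haff, htrans, htr, hsol, hp'⟩ := partA hC P hel N hN hsolv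
  have hV : Nat.card V = p ^ n := hVP.trans hcard
  have hadd : ∀ γ ∈ c.range, ∀ v w : V, γ (v + w) = γ v + γ w := by
    rintro γ ⟨g, rfl⟩ v w
    exact hcadd g v w
  have htrΓ : ∀ U₁ U₂ : AddSubgroup V, Nat.card U₁ = Nat.card U₂ →
      ∃ γ ∈ c.range, ∀ v, v ∈ U₁ ↔ γ v ∈ U₂ := by
    intro U₁ U₂ h
    obtain ⟨g, hg⟩ := htr U₁ U₂ h
    exact ⟨c g, ⟨g, rfl⟩, hg⟩
  obtain ⟨F, iFld, iFin, e, hsl⟩ := partB n hn hV hexp c.range hadd hsol hp' htrΓ
  have hcases := partC n hn hV hexp c.range hadd htrΓ e hsl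
  have hFcard : Nat.card F = p ^ n := by
    rw [← hV]
    exact (Nat.card_congr e.toEquiv).symm
  have hn0 : n ≠ 0 := by omega
  obtain ⟨ψ⟩ := exists_ringEquiv_galoisField p n hn0 hFcard
  obtain ⟨Φ, hΦker, hΦmem, hΦtr, hΦcard⟩ := transport Ψ c haff htrans e hsl ψ
  have hΦK : Φ.ker = Cfsg.pPrimeCore p ↥N := hΦker.trans hker
  have hrange : Nat.card ↥Φ.range = p ^ n * Nat.card ↥c.range := by
    rw [hΦcard, card_range_eq Ψ c hcadd haff htrans, hV]
  have hle : Φ.range ≤ Cfsg.semiaffineGroup (GaloisField p n) := by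
    rintro _ ⟨g, rfl⟩
    exact hΦmem g
  have hGF : Nat.card (GaloisField p n) = p ^ n := GaloisField.card p n hn0
  have hAut : Nat.card (GaloisField p n ≃+* GaloisField p n) = n := card_ringAut_galoisField p n hn0
  have hSA : Nat.card ↥(Cfsg.semiaffineGroup (GaloisField p n)) = p ^ n * (p ^ n - 1) * n := by
    rw [card_semiaffine, hGF, hAut]
  rcases hcases with ⟨h3, h2⟩ | ⟨h5, hp2, h155⟩
  · left
    subst h3
    refine ⟨rfl, embed_of_ker _ Φ hΦK hΦmem, ?_⟩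
    intro hp2
    subst hp2
    rcases h2 rfl with h7 | h21
    · right
      have hc : Nat.card ↥Φ.range = 56 := by rw [hrange, h7]; norm_num
      have hEq : Φ.range = Cfsg.affineGroup (GaloisField 2 3) :=
        eq_affine_of_card (by rw [hGF]; norm_num) hAut Φ.range hle hc
      exact iso_of_range _ Φ hΦK _ hEq
    · left
      have hc : Nat.card ↥Φ.range = 168 := by rw [hrange, h21]; norm_num
      have hEq : Φ.range = Cfsg.semiaffineGroup (GaloisField 2 3) := by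
        apply Subgroup.eq_of_le_of_card_ge hle
        rw [hSA, hc]; norm_num
      exact iso_of_range _ Φ hΦK _ hEq
  · right
    subst h5
    subst hp2
    refine ⟨rfl, rfl, ?_⟩
    have hc : Nat.card ↥Φ.range = 4960 := by rw [hrange, h155]; norm_num
    have hEq : Φ.range = Cfsg.semiaffineGroup (GaloisField 2 5) := by
      apply Subgroup.eq_of_le_of_card_ge hle
      rw [hSA, hc]; norm_num
    exact iso_of_range _ Φ hΦK _ hEq

end Cfsg.Agent.Lib.Helper2.HC25
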