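import Mathlib
import Cfsg.Prelude.Def_Transfer
import Cfsg.Prelude.Def_CaseTheorems
import Cfsg.Prelude.Def_Perm
import Cfsg.Agent.Lib.Helper28.HC25A

/-!
# S4025, PART A (group theory): from the fusion hypothesis to an affine action of `N = N_G(P)` on `V = P`

INTERFACE THEOREM `partA` (one statement; prove it directly or farm it from your own folder and replace
the `sorry` by a call to your theorem + one import).

Paper proof.  `P` is an elementary abelian Sylow `p`-subgroup, `N = N_G(P)`, `K = O_{p'}(N)` (`Cfsg.pPrimeCore p ↥N`).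
Take `V := Additive ↥P` (made an `AddCommGroup` using `hel.1`), `Nat.card V = Nat.card P`, `p • v = 0` from `hel.2`.
* `c : ↥N →* Equiv.Perm V` is conjugation, `c g v = g v g⁻¹` (additive: `c g (v + w) = c g v + c g w`; NOTE: in this Mathlib `AddAut V` is an ADDITIVE group, so we use `Equiv.Perm V` + an additivity clause).
* Burnside: if `U, U' ≤ P` and `U' = g U g⁻¹` with `g ∈ G`, then `P` and `g P g⁻¹` are abelian, contain `U'`, hence are
  Sylow `p`-subgroups of `C_G(U')`; take `x ∈ C_G(U')` with `x g P g⁻¹ x⁻¹ = P`; then `h = x g ∈ N` and `h U h⁻¹ = U'`.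
  With `hC` this gives the transitivity of `c` on `AddSubgroup V` of equal cardinality (subgroups of `P` are `p`-groups).
* `K` centralizes `P` (`[K,P] ≤ K ∩ P = 1`, both normal in `N`), so `c` factors through `N/K`: `c.range` is solvable; `P ≤ ker c`
  and `P` is a Sylow `p`-subgroup of `N`, so `p ∤ |c.range|`.
* Schur–Zassenhaus (`Subgroup.exists_right_complement'_of_coprime` or the landed variants): `N = P ⋊ L`.  Every `g ∈ N` is uniquely
  `u * l` (`u ∈ P`, `l ∈ L`); put `Ψ g v = u + c l v` (i.e. `x ↦ u * (l x l⁻¹)`).  This is a hom `N → Perm V`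
  (`(u l)(u' l') = u (l u' l⁻¹) (l l')`), with `Ψ g v = c g v + t` for `t = u` (`c u = 1` as `P` is abelian), and `Ψ u = (· + u)` for `u ∈ P`.
* `ker Ψ = {l ∈ L : l centralizes P} = C_L(P) = K`: `K ≤ L` (`K L` is a `p'`-subgroup containing the Hall `p'`-subgroup `L`); `K ≤ C(P)`;
  `C_N(P) = P × C_L(P)` (Dedekind), so `C_L(P)` is the normal `p`-complement of `C_N(P) ⊴ N`, characteristic in it, hence a normal
  `p'`-subgroup of `N`, hence `≤ K`.
-/

set_option autoImplicit false

namespace Cfsg.Agent.Lib.Helper2.HC25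

universe u

theorem partA {G : Type u} [Group G] [Finite G] {p : ℕ} [Fact p.Prime]
    (hC : ∀ H K : Subgroup G, IsPGroup p H → IsPGroup p K → Nat.card H = Nat.card K →
      ∃ g : G, K = H.map (MulAut.conj g).toMonoidHom) (P : Sylow p G)
    (hel : Cfsg.IsElementaryAbelian p (P : Subgroup G))
    (N : Subgroup G) (hN : N = Subgroup.normalizer ((P : Subgroup G) : Set G))
    (hsolv : Group.IsSolvable (↥N ⧸ Cfsg.pPrimeCore p ↥N)) :
    ∃ (V : Type u) (_ : AddCommGroup V) (_ : Finite V) (Ψ : ↥N →* Equiv.Perm V) (c : ↥N →* Equiv.Perm V),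
      Nat.card V = Nat.card P ∧ (∀ v : V, p • v = 0) ∧
      Ψ.ker = Cfsg.pPrimeCore p ↥N ∧
      (∀ g v w, c g (v + w) = c g v + c g w) ∧
      (∀ g, ∃ t : V, ∀ v, Ψ g v = c g v + t) ∧
      (∀ t : V, ∃ g, ∀ v, Ψ g v = v + t) ∧
      (∀ U₁ U₂ : AddSubgroup V, Nat.card U₁ = Nat.card U₂ → ∃ g, ∀ v, v ∈ U₁ ↔ c g v ∈ U₂) ∧
      Group.IsSolvable ↥c.range ∧ ¬ p ∣ Nat.card ↥c.range := by
  exact Cfsg.Agent.Lib.Helper28.HC25A.partA' hC P hel N hN hsolv

end Cfsg.Agent.Lib.Helper2.HC25
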